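import Cfsg.Agent.H410.Three.Psl2Cl
import Cfsg.Agent.H383.Der.Psl2
import Cfsg.Agent.LieExceptional.PGLeqPSL

/-!
# Three classes of derangements (S3502): `PSL₂(q)` (helper410)

`rowS_psl2`: `RowS (PSL₂(q))` for `q ≥ 4`, `q ∉ {4,5,7,8,9}`.
-/

set_option autoImplicit false
set_option linter.unusedSectionVars false

namespace Cfsg.Agent.H410.Three.Psl2

open Subgroup Cfsg Cfsg.Agent.H439.Der Cfsg.Agent.H383.Der.Psl2

section

variable {F : Type*} [Field F] [Fintype F] {p f q d np nm : ℕ}

local notation "T2" => Matrix.ProjectiveSpecialLinearGroup (Fin 2) F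

/-- Dickson's theorem, numerically, with a little more information -/
theorem dickson' [Fact p.Prime] [CharP F p] (hF : Fintype.card F = q) (h : Ar p f q d np nm) (M : Subgroup T2)
    (hM : M ≠ ⊤) :
    (∃ k, (k ∣ np ∨ k ∣ nm) ∧ Nat.card M ∣ 2 * k) ∨
    (∃ (P : Sylow p T2) (K : Subgroup T2), K ≤ normalizer ((P : Subgroup T2) : Set T2) ∧ Nonempty (M ≃* K)) ∨
    ((∀ m ∈ M, orderOf m ≤ 5) ∧ (¬ 5 ∣ Nat.card M ∨ Nonempty (M ≃* alternatingGroup (Fin 5)))) ∨
    (∃ q0 m : ℕ, 2 ≤ q0 ∧ 2 ≤ m ∧ q0 ^ m = q ∧ p ∣ q0 ∧ Nat.card M ∣ q0 * (q0 ^ 2 - 1) ∧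
      (q = 16 → ∀ x ∈ M, orderOf x ≠ 15)) := by
  have : Finite T2 := finite_psl
  have h11 := h.hq11
  have hdick := Cfsg.Agent.S0799.result hF p M
  rw [← h.hd, ← h.hnp, ← h.hnm] at hdick
  rcases hdick with ⟨k, hk, hk'⟩ | hB | ⟨⟨e⟩⟩ | ⟨⟨e⟩⟩ | ⟨⟨e⟩⟩ | ⟨K, iK, iK', m, hm, he⟩
  · left
    refine ⟨k, hk, ?_⟩
    rcases hk' with ⟨-, h⟩ | ⟨⟨e⟩⟩
    · rw [h]; exact Dvd.intro_left 2 rfl
    · rw [Nat.card_congr e.toEquiv, DihedralGroup.nat_card]
  · exact Or.inr (Or.inl hB)
  · refine Or.inr (Or.inr (Or.inl ⟨fun m hm => ?_, Or.inl ?_⟩))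
    · have h1 := orderOf_A4 (e ⟨m, hm⟩)
      rwa [MulEquiv.orderOf_eq, ← Subgroup.orderOf_coe] at h1
    · rw [Nat.card_congr e.toEquiv, nat_card_alternatingGroup, Nat.card_eq_fintype_card, Fintype.card_fin]
      decide
  · refine Or.inr (Or.inr (Or.inl ⟨fun m hm => ?_, Or.inl ?_⟩))
    · have h1 := orderOf_S4 (e ⟨m, hm⟩)
      rwa [MulEquiv.orderOf_eq, ← Subgroup.orderOf_coe] at h1
    · rw [Nat.card_congr e.toEquiv, Nat.card_perm, Nat.card_eq_fintype_card, Fintype.card_fin]
      decide
  · refine Or.inr (Or.inr (Or.inl ⟨fun m hm => ?_, Or.inr ⟨e⟩⟩))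
    have h1 := orderOf_A5 (e ⟨m, hm⟩)
    rwa [MulEquiv.orderOf_eq, ← Subgroup.orderOf_coe] at h1
  · refine Or.inr (Or.inr (Or.inr ?_))
    obtain ⟨q0, hq0⟩ : ∃ q0, Fintype.card K = q0 := ⟨_, rfl⟩
    have hq01 : 1 < q0 := hq0 ▸ Fintype.one_lt_card
    rw [hq0] at hm
    have hm0 : m ≠ 0 := by rintro rfl; rw [pow_zero] at hm; omega
    have hpp := h.hp
    obtain ⟨a, -, ha⟩ := (Nat.dvd_prime_pow hpp).1 (show q0 ∣ p ^ f by
      rw [← h.hq, ← hm]; exact dvd_pow_self q0 hm0)
    have ha0 : a ≠ 0 := by rintro rfl; rw [pow_zero] at ha; omega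
    have hpq0 : p ∣ q0 := ha ▸ dvd_pow_self p ha0
    have hcT := Cfsg.Agent.H394.SqPsl2.card_psl (F := F)
    rw [hF] at hcT
    have hM1 : Nat.card M ∣ q0 * (q0 ^ 2 - 1) ∧ (q0 = q → Nat.card T2 ≤ Nat.card M) := by
      rcases he with ⟨⟨e⟩⟩ | ⟨⟨e⟩⟩
      · have h1 := Cfsg.Agent.H394.SqPsl2.card_psl (F := K)
        rw [hq0, ← Nat.card_congr e.toEquiv] at h1
        refine ⟨⟨_, by rw [← h1]; ring⟩, ?_⟩
        rintro rfl
        rw [← hcT] at h1
        exact (Nat.eq_of_mul_eq_mul_left (Nat.gcd_pos_of_pos_left _ (by norm_num)) h1).ge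
      · have h1 := Cfsg.Agent.H394.SqPsl2.card_pgl (F := K)
        rw [hq0, ← Nat.card_congr e.toEquiv] at h1
        refine ⟨by rw [h1], ?_⟩
        rintro rfl
        rw [h1, ← hcT]
        exact Nat.le_mul_of_pos_left _ (Nat.gcd_pos_of_pos_left _ (by norm_num))
    have hm2 : 2 ≤ m := by
      by_contra hm2
      have hm1 : m = 1 := by omega
      rw [hm1, pow_one] at hm
      apply hM
      exact Subgroup.eq_top_of_le_card M (hM1.2 hm)
    refine ⟨q0, m, hq01, hm2, hm, hpq0, hM1.1, ?_⟩
    intro hq16 x hx hx15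
    have hd15 : 15 ∣ Nat.card M := by
      rw [← hx15, ← Subgroup.orderOf_mk x hx]
      exact orderOf_dvd_natCard _
    -- `q0 = 4`
    have hp2 : p = 2 := by
      have h1 : p ∣ 2 ^ 4 := by
        rw [show (2 : ℕ) ^ 4 = q by rw [hq16]; norm_num, h.hq]
        exact dvd_pow_self p (by have := h.hf; omega)
      exact (Nat.prime_dvd_prime_iff_eq hpp Nat.prime_two).1 (hpp.dvd_of_dvd_pow h1)
    subst hp2
    have hq0' : q0 = 4 := by
      have h1 : q0 ^ 2 ≤ 16 := by
        rw [← hq16, ← hm]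
        exact Nat.pow_le_pow_right (by omega) hm2
      have h2 : q0 ≤ 4 := by nlinarith
      have h3 := hd15.trans hM1.1
      interval_cases q0
      · norm_num at h3
      · norm_num at hpq0
      · rfl
    subst hq0'
    have : CharP K 2 := by
      obtain ⟨r, hr⟩ := CharP.exists K
      have hr' : r.Prime := CharP.char_is_prime K r
      obtain ⟨n, -, hn⟩ := FiniteField.card K r
      have h1 : r ∣ 2 ^ 2 := by
        rw [show (2 : ℕ) ^ 2 = Fintype.card K by rw [hq0]; norm_num, hn]
        exact dvd_pow_self r n.ne_zero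
      rwa [(Nat.prime_dvd_prime_iff_eq hr' Nat.prime_two).1 (hr'.dvd_of_dvd_pow h1)] at hr
    obtain ⟨e⟩ : Nonempty (M ≃* Matrix.ProjectiveSpecialLinearGroup (Fin 2) K) := by
      rcases he with he | ⟨⟨e⟩⟩
      · exact he
      · obtain ⟨e'⟩ := LieExceptional.PGLeqPSL.nonempty_pgl_mulEquiv_psl K (fun y => by
          obtain ⟨r, hr⟩ := (isSquare_iff_exists_sq y).1 (FiniteField.isSquare_of_char_two
            (ringChar.eq K 2) y)
          exact ⟨r, hr⟩)
        exact ⟨e.trans e'⟩
    have h1 : (15 : ℕ) ∈ Set.range (orderOf : Matrix.ProjectiveSpecialLinearGroup (Fin 2) K → ℕ) :=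
      ⟨e ⟨x, hx⟩, by rw [MulEquiv.orderOf_eq, Subgroup.orderOf_mk, hx15]⟩
    rw [Cfsg.Agent.H390.PslSpec.range_orderOf (p := 2) (by omega)] at h1
    have h2 : Cfsg.Agent.H390.PslSpec.dd 4 = 1 := by decide
    rw [hq0] at h1
    simp [Cfsg.Agent.H390.PslSpec.specSet, h2] at h1

theorem ord_dvd {M : Subgroup T2} {x : T2} (hx : x ∈ M) : orderOf x ∣ Nat.card M := by
  rw [← Subgroup.orderOf_mk x hx]
  exact orderOf_dvd_natCard _

/-- `2 f < np - 1` -/
theorem two_f (h : Ar p f q d np nm) : 2 * f < np - 1 := by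
  have h1 := h.bound
  by_cases hp2 : p = 2
  · obtain ⟨e, -⟩ := h.even hp2
    rw [e, mul_one] at h1
    exact h1
  · obtain ⟨e, -⟩ := h.odd hp2
    have := h.hf
    rw [e] at h1
    omega

theorem pow_two_lt : ∀ f : ℕ, 5 ≤ f → 4 * f + 2 < 2 ^ f := by
  intro f hf
  induction f, hf using Nat.le_induction with
  | base => norm_num
  | succ n hn ih => rw [pow_succ]; omega

/-- `4 f < np - 1` unless `q = 16` -/
theorem four_f (h : Ar p f q d np nm) (h16 : q ≠ 16) : 4 * f < np - 1 ∧ (p = 2 → 4 * f < nm - 1) := by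
  by_cases hp2 : p = 2
  · subst hp2
    obtain ⟨-, hf4, e1, e2, -⟩ := h.even rfl
    have hf5 : 5 ≤ f := by
      rcases Nat.eq_or_lt_of_le hf4 with h4 | h4
      · exfalso
        apply h16
        rw [h.hq, ← h4]
        norm_num
      · exact h4
    have := pow_two_lt f hf5
    rw [← h.hq] at this
    exact ⟨by omega, fun _ => by omega⟩
  · refine ⟨?_, fun h2 => absurd h2 hp2⟩
    have h1 := h.bound
    rw [(h.odd hp2).1] at h1
    omega

/-- facts about a number `n` dividing the order of a torus -/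
theorem exists_ord [Fact p.Prime] [CharP F p] (hF : Fintype.card F = q) (h : Ar p f q d np nm) {n k : ℕ}
    (hn : n = np ∨ n = nm) (hk : k ∣ n) : ∃ g : T2, orderOf g = k := (spec hF h k).2 (by
  rcases hn with rfl | rfl
  · exact Or.inr (Or.inr hk)
  · exact Or.inr (Or.inl hk))

theorem not_dvd_n (h : Ar p f q d np nm) {n : ℕ} (hn : n = np ∨ n = nm) : ¬ p ∣ n := by
  rcases hn with rfl | rfl
  · exact h.not_dvd_np
  · exact h.not_dvd_nm

/-- **a torus order coprime to `|M|`** -/
theorem three_of_coprime [Fact p.Prime] [CharP F p] (hF : Fintype.card F = q) (h : Ar p f q d np nm) {n : ℕ}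
    (hn : n = np ∨ n = nm) (h4 : 4 * f < n - 1) (h5 : 5 ≤ n) {M : Subgroup T2} (hM : Nat.Coprime n (Nat.card M)) :
    Three T2 M := by
  have : Finite T2 := finite_psl
  have hFp : Fintype.card F = p ^ f := hF.trans h.hq
  have hnd : ∀ k, k ∣ n → k ≠ 1 → ¬ k ∣ Nat.card M := fun k hk h1 h2 =>
    h1 (Nat.eq_one_of_dvd_coprimes hM hk h2)
  have hmis : ∀ k, k ∣ n → k ≠ 1 → ∀ m ∈ M, orderOf m ≠ k := fun k hk h1 m hm h2 =>
    hnd k hk h1 (h2 ▸ ord_dvd hm)
  have hpn := not_dvd_n h hn
  obtain ⟨y, hy⟩ := exists_ord hF h hn dvd_rfl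
  by_cases hv : n.Prime
  · refine Three.of_not_dvd (v := n) (hnd n dvd_rfl (by omega)) ?_ ⟨y, by rw [hy]⟩
    exact not_SCC_of_totient h.hf hFp (by omega) hpn hy (by rw [Nat.totient_prime hv]; exact h4)
  · have hr : n.minFac.Prime := Nat.minFac_prime (by omega)
    obtain ⟨s, hs⟩ := n.minFac_dvd
    set r := n.minFac with hrd
    have hs1 : s ≠ 1 := by
      rintro rfl
      rw [mul_one] at hs
      exact hv (hs ▸ hr)
    have hs0 : 0 < s := Nat.pos_of_ne_zero (by rintro rfl; omega)
    have hr2 := hr.two_le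
    have hsn : s < n := by
      rw [hs]
      exact lt_mul_of_one_lt_left hs0 hr2
    have hrn : r < n := by
      rw [hs]
      exact lt_mul_of_one_lt_right (by omega) (by omega)
    obtain ⟨x, hx⟩ := exists_ord hF h hn (n.minFac_dvd)
    by_cases hrs : s = r
    · refine Three.of_not_SC_order (v := n) (c := r) (hnd n dvd_rfl (by omega)) ?_ hx
        (hmis r n.minFac_dvd hr.one_lt.ne') ?_
      · refine not_SC_of_totient h.hf hFp (by omega) hpn hy ?_
        have h6 : n = r ^ 2 := by rw [hs, hrs, pow_two]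
        rw [h6, Nat.totient_prime_pow hr (by norm_num)]
        have h7 : 4 * f < r ^ 2 - 1 := by rw [← h6]; exact h4
        have h8 : r ^ 2 - 1 ≤ 2 * (r ^ (2 - 1) * (r - 1)) := by
          obtain ⟨t, ht⟩ : ∃ t, r = t + 1 := ⟨r - 1, by omega⟩
          rw [ht, Nat.add_sub_cancel]
          have : (t + 1) ^ 2 - 1 = t * t + 2 * t := by
            have : (t + 1) ^ 2 = t * t + 2 * t + 1 := by ring
            omega
          rw [this]
          norm_num
          nlinarith
        omega
      · intro h6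
        have := Nat.le_of_dvd (by omega) h6
        omega
    · obtain ⟨z, hz⟩ := exists_ord hF h hn (k := s) ⟨r, by rw [mul_comm]; exact hs⟩
      exact Three.of_orders (a := r) (b := s) (c := n) (Ne.symm hrs) hrn.ne hsn.ne hx hz hy
        (hmis r n.minFac_dvd hr.one_lt.ne') (hmis s ⟨r, by rw [mul_comm]; exact hs⟩ hs1) (hmis n dvd_rfl (by omega))

/-- dihedral subgroups, `q` odd -/
theorem three_of_dihedral [Fact p.Prime] [CharP F p] (hF : Fintype.card F = q) (h : Ar p f q d np nm) (hp2 : p ≠ 2)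
    {n n' : ℕ} (hn : (n = np ∧ n' = nm) ∨ (n = nm ∧ n' = np)) {k : ℕ} (hk : k ∣ n') {M : Subgroup T2}
    (hM : Nat.card M ∣ 2 * k) : Three T2 M := by
  have : Finite T2 := finite_psl
  have hFp : Fintype.card F = p ^ f := hF.trans h.hq
  have hc : Nat.Coprime n n' := by
    rcases hn with ⟨rfl, rfl⟩ | ⟨rfl, rfl⟩
    · exact h.coprime
    · exact h.coprime.symm
  have hn' : n = np ∨ n = nm := hn.imp And.left And.left
  have h5 : 5 ≤ n := by
    rcases hn' with rfl | rfl
    · exact (by norm_num : 5 ≤ 6).trans h.six_le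
    · exact h.five_le
  have hf2 : 2 * f < n - 1 := by
    rcases hn' with rfl | rfl
    · exact two_f h
    · have h1 := h.bound
      obtain ⟨e1, -, -, e2⟩ := h.odd hp2
      have := h.hf
      rw [e1] at h1
      omega
  have hp' := h.hp
  have hpk : ¬ p ∣ Nat.card M := by
    intro h1
    rcases h.hp.dvd_mul.1 (h1.trans hM) with h2 | h2
    · exact hp2 ((Nat.prime_dvd_prime_iff_eq h.hp Nat.prime_two).1 h2)
    · rcases hn with ⟨-, rfl⟩ | ⟨-, rfl⟩
      · exact h.not_dvd_nm (h2.trans hk)
      · exact h.not_dvd_np (h2.trans hk)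
  have hpn := not_dvd_n h hn'
  have hmiss : ∀ j, j ∣ n → 3 ≤ j → ¬ j ∣ Nat.card M := by
    intro j hj h3 h1
    have h2 : j ∣ 2 := ((hc.coprime_dvd_left hj).coprime_dvd_right hk).dvd_of_dvd_mul_right (h1.trans hM)
    have := Nat.le_of_dvd (by norm_num) h2
    omega
  obtain ⟨x, hx⟩ := (spec hF h p).2 (Or.inl dvd_rfl)
  obtain ⟨y, hy⟩ := exists_ord hF h hn' dvd_rfl
  by_cases hv : n.Prime
  · refine Three.of_not_SC_order (v := n) (c := p) (hmiss n dvd_rfl (by omega))
      (not_SC_of_totient h.hf hFp (by omega) hpn hy (by rw [Nat.totient_prime hv]; exact hf2)) hx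
      (fun m hm h1 => hpk (h1 ▸ ord_dvd hm)) ?_
    intro h1
    exact hpn (by rw [(Nat.prime_dvd_prime_iff_eq hv hp').1 h1])
  · have hr : n.minFac.Prime := Nat.minFac_prime (by omega)
    obtain ⟨s, hs⟩ := n.minFac_dvd
    have hs1 : s ≠ 1 := by
      rintro rfl
      rw [mul_one] at hs
      exact hv (hs ▸ hr)
    have hs0 : 0 < s := Nat.pos_of_ne_zero (by rintro rfl; omega)
    have hrs : n.minFac ≤ s := Nat.minFac_le_of_dvd (by omega) ⟨n.minFac, by rw [mul_comm]; exact hs⟩
    have h3 : 3 ≤ s := by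
      by_contra h3
      have h6 : s = 2 := by omega
      have h7 : n.minFac = 2 := by have := hr.two_le; omega
      rw [h6, h7] at hs
      omega
    have hsn : s ∣ n := ⟨n.minFac, by rw [mul_comm]; exact hs⟩
    obtain ⟨z, hz⟩ := exists_ord hF h hn' hsn
    refine Three.of_orders (a := p) (b := s) (c := n) (fun h1 => hpn (h1 ▸ hsn)) (fun h1 => hpn (h1 ▸ dvd_rfl))
      (fun h1 => ?_) hx hz hy (fun m hm h1 => hpk (h1 ▸ ord_dvd hm)) (fun m hm h1 => hmiss s hsn h3 (h1 ▸ ord_dvd hm))
      (fun m hm h1 => hmiss n dvd_rfl (by omega) (h1 ▸ ord_dvd hm))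
    have := hr.two_le
    have : s * 1 < n.minFac * s := by rw [mul_comm]; exact Nat.mul_lt_mul_of_pos_right (by omega) hs0
    omega

/-- small subgroups -/
theorem three_of_small [Fact p.Prime] [CharP F p] (hF : Fintype.card F = q) (h : Ar p f q d np nm) (hq11 : q ≠ 11)
    {M : Subgroup T2} (hM : ∀ m ∈ M, orderOf m ≤ 5) : Three T2 M := by
  have : Finite T2 := finite_psl
  have hFp : Fintype.card F = p ^ f := hF.trans h.hq
  have h11 := h.hq11
  have hnm : 6 ≤ nm := by
    rcases h.six_or with h6 | h6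
    · exact h6
    · by_cases hp2 : p = 2
      · omega
      · have e := h.odd hp2
        have h12 : 12 ≤ q := by omega
        have h13 : q ≠ 12 := by omega
        omega
  have hnp : 7 ≤ np := by have := h.nm_lt; omega
  obtain ⟨x, hx⟩ := exists_ord hF h (Or.inl rfl) (dvd_refl np)
  obtain ⟨y, hy⟩ := exists_ord hF h (Or.inr rfl) (dvd_refl nm)
  by_cases hp7 : 7 ≤ p
  · obtain ⟨z, hz⟩ := (spec hF h p).2 (Or.inl dvd_rfl)
    refine Three.of_orders (a := np) (b := nm) (c := p) h.nm_lt.ne' (fun h1 => h.not_dvd_np (h1 ▸ dvd_rfl))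
      (fun h1 => h.not_dvd_nm (h1 ▸ dvd_rfl)) hx hy hz (fun m hm h1 => ?_) (fun m hm h1 => ?_) (fun m hm h1 => ?_)
    all_goals have := hM m hm; omega
  · by_cases hv : np.Prime
    · have := Fact.mk hv
      refine Three.of_not_SC_order (v := np) (c := nm) (fun h1 => ?_)
        (not_SC_of_totient h.hf hFp (by omega) h.not_dvd_np hx (by rw [Nat.totient_prime hv]; exact two_f h)) hy
        (fun m hm h1 => by have := hM m hm; omega) (fun h1 => ?_)
      · obtain ⟨g, hg⟩ := exists_prime_orderOf_dvd_card' np h1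
        have := hM g g.2
        rw [Subgroup.orderOf_coe, hg] at this
        omega
      · exact hv.one_lt.ne' (Nat.eq_one_of_dvd_coprimes h.coprime dvd_rfl h1)
    · have hr : np.minFac.Prime := Nat.minFac_prime (by omega)
      obtain ⟨s, hs⟩ := np.minFac_dvd
      have hs1 : s ≠ 1 := by
        rintro rfl
        rw [mul_one] at hs
        exact hv (hs ▸ hr)
      have hs0 : 0 < s := Nat.pos_of_ne_zero (by rintro rfl; omega)
      have hrs : np.minFac ≤ s := Nat.minFac_le_of_dvd (by omega) ⟨np.minFac, by rw [mul_comm]; exact hs⟩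
      have hsn : s ∣ np := ⟨np.minFac, by rw [mul_comm]; exact hs⟩
      have hslt : s < np := by
        have := hr.two_le
        have h1 : s * 1 < np.minFac * s := by rw [mul_comm]; exact Nat.mul_lt_mul_of_pos_right (by omega) hs0
        omega
      have h6 : 6 ≤ s := by
        by_contra h6
        have h7 : np ≤ 25 := by
          rw [hs]
          calc np.minFac * s ≤ 5 * 5 := Nat.mul_le_mul (by omega) (by omega)
            _ = 25 := by norm_num
        have hp := h.hp
        have hpcases : p = 2 ∨ p = 3 ∨ p = 5 := by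
          have := hp.two_le
          have h8 : p ≠ 4 := by rintro rfl; norm_num at hp
          have h9 : p ≠ 6 := by rintro rfl; norm_num at hp
          omega
        rcases hpcases with rfl | rfl | rfl
        · obtain ⟨-, hf4, e1, -⟩ := h.even rfl
          have hq := h.hq
          have hf5 : f < 5 := by
            by_contra h5
            have : 2 ^ 5 ≤ 2 ^ f := Nat.pow_le_pow_right (by norm_num) (by omega)
            omega
          have hf' : f = 4 := by omega
          rw [hf'] at hq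
          have : np = 17 := by omega
          rw [this] at hv
          norm_num at hv
        · obtain ⟨-, e1, -⟩ := h.odd (by norm_num)
          have hq := h.hq
          have hf4 : f < 4 := by
            by_contra h5
            have : 3 ^ 4 ≤ 3 ^ f := Nat.pow_le_pow_right (by norm_num) (by omega)
            omega
          interval_cases f
          · omega
          · omega
          · omega
          · have h14 : np = 14 := by omega
            rw [h14] at hs hr hrs
            have h2 : Nat.minFac 14 = 2 := by norm_num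
            rw [h2] at hs
            omega
        · obtain ⟨-, e1, -⟩ := h.odd (by norm_num)
          have hq := h.hq
          have hf4 : f < 3 := by
            by_contra h5
            have : 5 ^ 3 ≤ 5 ^ f := Nat.pow_le_pow_right (by norm_num) (by omega)
            omega
          interval_cases f
          · omega
          · omega
          · have h14 : np = 13 := by omega
            rw [h14] at hv
            norm_num at hv
      obtain ⟨z, hz⟩ := exists_ord hF h (Or.inl rfl) hsn
      refine Three.of_orders (a := np) (b := nm) (c := s) h.nm_lt.ne' hslt.ne' (fun h1 => ?_) hx hy hz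
        (fun m hm h1 => ?_) (fun m hm h1 => ?_) (fun m hm h1 => ?_)
      · have := Nat.eq_one_of_dvd_coprimes h.coprime hsn (h1 ▸ dvd_rfl)
        omega
      all_goals have := hM m hm; omega

/-- subfield subgroups -/
theorem three_of_subfield [Fact p.Prime] [CharP F p] (hF : Fintype.card F = q) (h : Ar p f q d np nm) (h16 : q ≠ 16)
    {M : Subgroup T2} {q0 m : ℕ} (hq0 : 2 ≤ q0) (hm : 2 ≤ m) (hqm : q0 ^ m = q) (hpq0 : p ∣ q0)
    (hdvd : Nat.card M ∣ q0 * (q0 ^ 2 - 1)) : Three T2 M := by
  have : Finite T2 := finite_psl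
  have hFp : Fintype.card F = p ^ f := hF.trans h.hq
  have h11 := h.hq11
  have hcop := h.coprime
  have h6 := h.six_le
  rcases Nat.even_or_odd m with he | ho
  · -- `np` is coprime to `|M|`
    refine three_of_coprime hF h (Or.inl rfl) (four_f h h16).1 (by omega) ?_
    refine Nat.Coprime.coprime_dvd_right hdvd ?_
    apply Nat.Coprime.mul_right
    · refine Nat.Coprime.coprime_dvd_right ?_ h.coprime_q
      rw [← hqm]
      exact dvd_pow_self q0 (by omega)
    · obtain ⟨j, hj⟩ := he
      have h2 : q0 ^ 2 - 1 ∣ q - 1 := by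
        rw [← hqm, hj, ← two_mul, pow_mul]
        simpa using Nat.sub_dvd_pow_sub_pow (q0 ^ 2) 1 j
      refine Nat.Coprime.coprime_dvd_right h2 ?_
      by_cases hp2 : p = 2
      · rw [← (h.even hp2).2.2.2.1]; exact hcop
      · obtain ⟨-, e1, e2, e3⟩ := h.odd hp2
        rw [← e2]
        refine Nat.Coprime.mul_right ?_ hcop
        -- `np` is odd
        rw [Nat.coprime_comm, Nat.coprime_two_left]
        have h3 : q0 % 2 = 1 := by
          by_contra h3
          have h4 : 2 ∣ q := by rw [← hqm]; exact dvd_pow (by omega) (by omega)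
          rw [h.hq] at h4
          exact hp2 ((Nat.prime_dvd_prime_iff_eq Nat.prime_two h.hp).1 (Nat.prime_two.dvd_of_dvd_pow h4)).symm
        have h4 : q % 4 = 1 := by
          rw [← hqm, hj, ← two_mul, pow_mul, Nat.pow_mod]
          have h5 : q0 ^ 2 % 4 = 1 := by
            rw [Nat.pow_mod]
            have : q0 % 4 = 1 ∨ q0 % 4 = 3 := by omega
            rcases this with h5 | h5 <;> rw [h5]
          rw [h5, one_pow]
          norm_num
        rw [Nat.odd_iff]
        omega
  · have hm3 : 3 ≤ m := by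
      rcases Nat.eq_or_lt_of_le hm with h2 | h2
      · exfalso
        rw [← h2] at ho
        exact absurd ho (by decide)
      · exact h2
    -- a primitive prime divisor of `q0 ^ (2 m) - 1`
    obtain ⟨r, hr, hr1, hr2, hr3⟩ := Cfsg.Agent.Lib.Zsigmondy.exists_primitive (a := q0) (n := 2 * m)
      (by omega) (by omega) (by omega) (by
        rintro ⟨h9, h10⟩
        have h11' : m = 3 := by omega
        rw [h9, h11'] at hqm
        omega)
    -- a primitive prime divisor of `q0 ^ m - 1`
    obtain ⟨s, hs, hs1, hs2, hs3⟩ := Cfsg.Agent.Lib.Zsigmondy.exists_primitive (a := q0) (n := m)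
      (by omega) (by omega) (by omega) (by
        rintro ⟨h9, h10⟩
        rw [h10] at ho
        exact absurd ho (by decide))
    have hq2 : r ∣ q ^ 2 - 1 := by
      rw [← hqm, ← pow_mul]
      exact (hr1 _).2 (by rw [mul_comm])
    have hqm1 : ¬ r ∣ q - 1 := by
      rw [← hqm]
      intro h1
      have := Nat.le_of_dvd (by omega) ((hr1 m).1 h1)
      omega
    have hrM : ¬ r ∣ Nat.card M := by
      intro h1
      rcases hr.dvd_mul.1 (h1.trans hdvd) with h2 | h2
      · exact hr3 h2
      · have := Nat.le_of_dvd (by norm_num) ((hr1 2).1 h2)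
        omega
    have hsM : ¬ s ∣ Nat.card M := by
      intro h1
      rcases hs.dvd_mul.1 (h1.trans hdvd) with h2 | h2
      · exact hs3 h2
      · have := Nat.le_of_dvd (by norm_num) ((hs1 2).1 h2)
        omega
    have hr2' : r ≠ 2 := by
      rintro rfl
      have := Nat.le_of_dvd (by norm_num) hr2
      omega
    have hs2' : s ≠ 2 := by
      rintro rfl
      have := Nat.le_of_dvd (by norm_num) hs2
      omega
    have hrq : r ∣ q + 1 := by
      rw [Cfsg.Agent.H394.SqPsl2.sub_mul_self (by omega)] at hq2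
      exact (hr.dvd_mul.1 hq2).resolve_right hqm1
    have hsq : s ∣ q - 1 := by rw [← hqm]; exact (hs1 m).2 dvd_rfl
    have hrn : r ∣ np := by
      by_cases hp2 : p = 2
      · rw [(h.even hp2).2.2.1]; exact hrq
      · rw [← (h.odd hp2).2.1] at hrq
        rcases hr.dvd_mul.1 hrq with h2 | h2
        · exact absurd ((Nat.prime_dvd_prime_iff_eq hr Nat.prime_two).1 h2) hr2'
        · exact h2
    have hsn : s ∣ nm := by
      by_cases hp2 : p = 2
      · rw [(h.even hp2).2.2.2.1]; exact hsq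
      · rw [← (h.odd hp2).2.2.1] at hsq
        rcases hs.dvd_mul.1 hsq with h2 | h2
        · exact absurd ((Nat.prime_dvd_prime_iff_eq hs Nat.prime_two).1 h2) hs2'
        · exact h2
    obtain ⟨z, hz⟩ := exists_ord hF h (Or.inr rfl) hsn
    have hrs : r ≠ s := fun h1 => hr.one_lt.ne' (Nat.eq_one_of_dvd_coprimes hcop hrn (h1 ▸ hsn))
    have hsnp : ¬ s ∣ np := fun h1 => hs.one_lt.ne' (Nat.eq_one_of_dvd_coprimes hcop h1 hsn)
    obtain ⟨y, hy⟩ := exists_ord hF h (Or.inl rfl) (dvd_refl np)
    by_cases hne : r = np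
    · refine Three.of_not_SC_order (v := r) (c := s) hrM ?_ hz (fun m hm h1 => hsM (h1 ▸ ord_dvd hm)) ?_
      · rw [hne]
        exact not_SC_of_totient h.hf hFp (by omega) h.not_dvd_np hy
          (by rw [Nat.totient_prime (hne ▸ hr)]; exact two_f h)
      · exact fun h1 => hrs ((Nat.prime_dvd_prime_iff_eq hr hs).1 h1)
    · obtain ⟨x, hx⟩ := exists_ord hF h (Or.inl rfl) hrn
      exact Three.of_orders (a := r) (b := np) (c := s) hne hrs (fun h1 => hsnp (h1 ▸ dvd_rfl)) hx hy hz
        (fun m hm h1 => hrM (h1 ▸ ord_dvd hm)) (fun m hm h1 => hrM (hrn.trans (h1 ▸ ord_dvd hm)))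
        (fun m hm h1 => hsM (h1 ▸ ord_dvd hm))

/-- the generic case -/
theorem three_gen [Fact p.Prime] [CharP F p] (hF : Fintype.card F = q) (h : Ar p f q d np nm) (h16 : q ≠ 16)
    (hq11 : q ≠ 11) (M : Subgroup T2) (hM : M ≠ ⊤) : Three T2 M := by
  have : Finite T2 := finite_psl
  have hcop := h.coprime
  have h6 := h.six_le
  have h5 := h.five_le
  rcases dickson' hF h M hM with ⟨k, hk, hk2⟩ | ⟨P, K, hK, ⟨e⟩⟩ | ⟨h5, -⟩ | ⟨q0, m, hq0, hm, hqm, hpq0, hdvd, -⟩
  · by_cases hp2 : p = 2
    · obtain ⟨-, -, -, -, -, he1, he2⟩ := h.even hp2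
      rcases hk with hk | hk
      · refine three_of_coprime hF h (Or.inr rfl) ((four_f h h16).2 hp2) h5 (Nat.Coprime.coprime_dvd_right hk2 ?_)
        exact Nat.Coprime.mul_right ((Nat.Prime.coprime_iff_not_dvd Nat.prime_two).2 he2).symm
          (hcop.symm.coprime_dvd_right hk)
      · refine three_of_coprime hF h (Or.inl rfl) (four_f h h16).1 (by omega) (Nat.Coprime.coprime_dvd_right hk2 ?_)
        exact Nat.Coprime.mul_right ((Nat.Prime.coprime_iff_not_dvd Nat.prime_two).2 he1).symm
          (hcop.coprime_dvd_right hk)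
    · rcases hk with hk | hk
      · exact three_of_dihedral hF h hp2 (Or.inr ⟨rfl, rfl⟩) hk hk2
      · exact three_of_dihedral hF h hp2 (Or.inl ⟨rfl, rfl⟩) hk hk2
  · refine three_of_coprime hF h (Or.inl rfl) (four_f h h16).1 (by omega) ?_
    have h1 : Nat.card M ∣ q * nm := by
      rw [← card_B hF h P, Nat.card_congr e.toEquiv]
      exact card_dvd_of_le hK
    exact Nat.Coprime.coprime_dvd_right h1 (Nat.Coprime.mul_right h.coprime_q hcop)
  · exact three_of_small hF h hq11 h5
  · exact three_of_subfield hF h h16 hq0 hm hqm hpq0 hdvd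

/-- a subgroup of order divisible by `2`, `3` and `5` -/
theorem thirty_dvd {n : ℕ} (h2 : 2 ∣ n) (h3 : 3 ∣ n) (h5 : 5 ∣ n) : 30 ∣ n := by omega

/-- `q = 11` -/
theorem three_eleven [Fact p.Prime] [CharP F p] (hF : Fintype.card F = q) (h : Ar p f q d np nm)
    (hq11 : q = 11) (M : Subgroup T2) (hM : M ≠ ⊤) : Three T2 M ∨ ∀ R < M, Three T2 R := by
  have : Finite T2 := finite_psl
  have hcop := h.coprime
  have h6 := h.six_le
  have h5 := h.five_le
  have hp : p = 11 := by
    have h1 : p ∣ 11 := by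
      rw [← hq11, h.hq]
      exact dvd_pow_self p (by have := h.hf; omega)
    exact (Nat.prime_dvd_prime_iff_eq h.hp (by norm_num)).1 h1
  have hp2 : p ≠ 2 := by omega
  obtain ⟨-, e1, e2, -⟩ := h.odd hp2
  have hnp : np = 6 := by omega
  have hnm : nm = 5 := by omega
  obtain ⟨x6, hx6⟩ := exists_ord hF h (Or.inl rfl) (dvd_refl np)
  obtain ⟨x5, hx5⟩ := exists_ord hF h (Or.inr rfl) (dvd_refl nm)
  obtain ⟨x11, hx11⟩ := (spec hF h p).2 (Or.inl dvd_rfl)
  rw [hnp] at hx6
  rw [hnm] at hx5
  rw [hp] at hx11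
  rcases dickson' hF h M hM with ⟨k, hk, hk2⟩ | ⟨P, K, hK, ⟨e⟩⟩ | ⟨h5, hA⟩ | ⟨q0, m, hq0, hm, hqm, hpq0, hdvd, -⟩
  · left
    rcases hk with hk | hk
    · exact three_of_dihedral hF h hp2 (Or.inr ⟨rfl, rfl⟩) hk hk2
    · exact three_of_dihedral hF h hp2 (Or.inl ⟨rfl, rfl⟩) hk hk2
  · left
    refine three_of_coprime hF h (Or.inl rfl) (four_f h (by omega)).1 (by omega) ?_
    have h1 : Nat.card M ∣ q * nm := by
      rw [← card_B hF h P, Nat.card_congr e.toEquiv]
      exact card_dvd_of_le hK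
    exact Nat.Coprime.coprime_dvd_right h1 (Nat.Coprime.mul_right h.coprime_q hcop)
  · have key : ∀ (R : Subgroup T2), R ≤ M → ∀ w : ℕ, (w = 2 ∨ w = 3 ∨ w = 5) → ¬ w ∣ Nat.card R → Three T2 R := by
      intro R hR w hw hwR
      obtain ⟨y, hy⟩ : ∃ y : T2, orderOf y = w := by
        rcases hw with rfl | rfl | rfl
        · exact exists_ord hF h (Or.inl rfl) (by rw [hnp]; norm_num)
        · exact exists_ord hF h (Or.inl rfl) (by rw [hnp]; norm_num)
        · exact ⟨x5, hx5⟩
      refine Three.of_orders (a := 6) (b := 11) (c := w) (by norm_num) (by omega) (by omega) hx6 hx11 hy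
        (fun m hm h1 => ?_) (fun m hm h1 => ?_) (fun m hm h1 => hwR (h1 ▸ ord_dvd hm))
      · have := h5 m (hR hm); omega
      · have := h5 m (hR hm); omega
    rcases hA with hA | ⟨⟨e⟩⟩
    · exact Or.inl (key M le_rfl 5 (by simp) hA)
    · right
      intro R hR
      by_cases h2 : 2 ∣ Nat.card R
      swap
      · exact key R hR.le 2 (by simp) h2
      by_cases h3 : 3 ∣ Nat.card R
      swap
      · exact key R hR.le 3 (by simp) h3
      by_cases h5' : 5 ∣ Nat.card R
      swap
      · exact key R hR.le 5 (by simp) h5'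
      exfalso
      have hcM : Nat.card M = 60 := by
        rw [Nat.card_congr e.toEquiv, nat_card_alternatingGroup, Nat.card_eq_fintype_card, Fintype.card_fin]
        decide
      have h30 := thirty_dvd h2 h3 h5'
      have hRM : Nat.card R ∣ 60 := by rw [← hcM]; exact card_dvd_of_le hR.le
      have hlt : Nat.card R < 60 := by
        rw [← hcM]
        exact Set.Finite.card_lt_card (Set.toFinite _) hR
      have hR30 : Nat.card R = 30 := by
        obtain ⟨c, hc⟩ := h30
        have := Nat.card_pos (α := R)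
        omega
      have hidx : (R.subgroupOf M).index = 2 := by
        have h1 := (R.subgroupOf M).card_mul_index
        rw [Nat.card_congr (Subgroup.subgroupOfEquivOfLe hR.le).toEquiv, hR30, hcM] at h1
        omega
      have hnor := Subgroup.normal_of_index_eq_two hidx
      have hs : IsSimpleGroup M := by
        have := alternatingGroup.isSimpleGroup_five
        exact MulEquiv.isSimpleGroup e
      rcases hnor.eq_bot_or_eq_top with h1 | h1
      · rw [h1, Subgroup.index_bot, hcM] at hidx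
        omega
      · rw [h1, Subgroup.index_top] at hidx
        omega
  · left
    exact three_of_subfield hF h (by omega) hq0 hm hqm hpq0 hdvd

/-- the Borel subgroup `2 ^ 4 : 15` of `PSL₂(16)` -/
theorem borel_sixteen [Fact (Nat.Prime 2)] [CharP F 2] {q f d np nm : ℕ} (hF : Fintype.card F = q)
    (h : Ar 2 f q d np nm) (hnp : np = 17) (hnm : nm = 15)
    (P : Sylow 2 T2) (R : Subgroup T2) (hR : R ≤ normalizer ((P : Subgroup T2) : Set T2)) {t : T2} (htR : t ∈ R)
    (ht : orderOf t = 15) (h2 : 2 ∣ Nat.card R) : 240 ∣ Nat.card R := by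
  have : Finite T2 := finite_psl
  obtain ⟨u, hu⟩ := exists_prime_orderOf_dvd_card' 2 h2
  have hu' : orderOf (u : T2) = 2 := by rw [Subgroup.orderOf_coe, hu]
  have huP : (u : T2) ∈ (P : Subgroup T2) := by
    have hpg : IsPGroup 2 (zpowers (u : T2)) := IsPGroup.of_card (n := 1) (by rw [Nat.card_zpowers, hu', pow_one])
    have h3 : IsPGroup 2 ((P : Subgroup T2) ⊔ zpowers (u : T2) : Subgroup T2) :=
      IsPGroup.to_sup_of_normal_left' P.2 hpg ((zpowers_le).2 (hR u.2))
    have h4 := P.3 h3 le_sup_left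
    rw [← h4]
    exact le_sup_right (a := (P : Subgroup T2)) (mem_zpowers (u : T2))
  set V : Subgroup T2 := R ⊓ P with hV
  -- sixteen elements
  let g : Option (Fin 15) → V := fun i => match i with
    | none => 1
    | some i => ⟨t ^ (i : ℕ) * u * (t ^ (i : ℕ))⁻¹, by
        refine ⟨R.mul_mem (R.mul_mem (R.pow_mem htR _) u.2) (R.inv_mem (R.pow_mem htR _)), ?_⟩
        exact (Subgroup.mem_normalizer_iff.1 (Subgroup.pow_mem _ (hR htR) (i : ℕ)) (u : T2)).1 huP⟩
  have hu1 : (u : T2) ≠ 1 := by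
    intro h1
    rw [h1, orderOf_one] at hu'
    omega
  have key : ∀ a : ℕ, 0 < a → a < 15 → ¬ Commute (t ^ a) (u : T2) := by
    intro a ha ha' hc
    have h1 : orderOf (t ^ a) ∣ 15 := by rw [← ht]; exact orderOf_pow_dvd a
    have h3 : orderOf (t ^ a) ≠ 1 := by
      intro h4
      rw [orderOf_eq_one_iff] at h4
      have := orderOf_dvd_of_pow_eq_one h4
      rw [ht] at this
      have := Nat.le_of_dvd ha this
      omega
    have h4 : orderOf (t ^ a * u) = orderOf (t ^ a) * 2 := by
      rw [hc.orderOf_mul_eq_mul_orderOf_of_coprime, hu']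
      rw [hu']
      exact Nat.Coprime.coprime_dvd_left h1 (by norm_num)
    have h5 := (spec hF h _).1 ⟨_, h4⟩
    rw [hnp, hnm] at h5
    rcases h5 with h5 | h5 | h5
    · have h6 := Nat.le_of_dvd (by norm_num) h5
      have : 0 < orderOf (t ^ a) := orderOf_pos _
      omega
    · have h6 : 2 ∣ 15 := (Dvd.intro_left _ rfl).trans h5
      omega
    · have h6 : 2 ∣ 17 := (Dvd.intro_left _ rfl).trans h5
      omega
  have hg : Function.Injective g := by
    have h1 : ∀ i j : Fin 15, i ≤ j → g (some i) = g (some j) → i = j := by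
      intro i j hij hgij
      have h3 : t ^ (i : ℕ) * (u : T2) * (t ^ (i : ℕ))⁻¹ = t ^ (j : ℕ) * u * (t ^ (j : ℕ))⁻¹ :=
        congrArg Subtype.val hgij
      by_contra hne
      have hlt : (i : ℕ) < j := lt_of_le_of_ne hij fun h4 => hne (Fin.ext h4)
      apply key ((j : ℕ) - i) (by omega) (by omega)
      have h4 : t ^ (j : ℕ) = t ^ (i : ℕ) * t ^ ((j : ℕ) - i) := by rw [← pow_add]; congr 1; omega
      rw [h4] at h3
      have h5 : (u : T2) = t ^ ((j : ℕ) - i) * u * (t ^ ((j : ℕ) - i))⁻¹ := by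
        have h6 := congrArg (fun z => (t ^ (i : ℕ))⁻¹ * z * t ^ (i : ℕ)) h3
        simpa [mul_assoc] using h6
      change t ^ ((j : ℕ) - i) * u = u * t ^ ((j : ℕ) - i)
      conv_rhs => rw [h5]
      group
    intro i j hij
    match i, j with
    | none, none => rfl
    | none, some j =>
      exfalso
      have h3 : (1 : T2) = t ^ (j : ℕ) * u * (t ^ (j : ℕ))⁻¹ := congrArg Subtype.val hij
      apply hu1
      have h6 := congrArg (fun z => (t ^ (j : ℕ))⁻¹ * z * t ^ (j : ℕ)) h3
      simpa [mul_assoc] using h6.symm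
    | some i, none =>
      exfalso
      have h3 : t ^ (i : ℕ) * u * (t ^ (i : ℕ))⁻¹ = (1 : T2) := congrArg Subtype.val hij
      apply hu1
      have h6 := congrArg (fun z => (t ^ (i : ℕ))⁻¹ * z * t ^ (i : ℕ)) h3
      simpa [mul_assoc] using h6
    | some i, some j =>
      rcases le_total i j with h3 | h3
      · rw [h1 i j h3 hij]
      · rw [h1 j i h3 hij.symm]
  have hcard : 16 ≤ Nat.card V := by
    have h1 := Nat.card_le_card_of_injective g hg
    simpa using h1
  obtain ⟨a, ha⟩ := IsPGroup.iff_card.1 (P.2.to_le (inf_le_right : V ≤ P))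
  have h16 : 16 ∣ Nat.card V := by
    rw [ha] at hcard ⊢
    have h4 : 4 ≤ a := by
      by_contra h4
      have : 2 ^ a ≤ 2 ^ 3 := Nat.pow_le_pow_right (by norm_num) (by omega)
      omega
    exact pow_dvd_pow 2 h4
  have h1 : 16 ∣ Nat.card R := h16.trans (card_dvd_of_le inf_le_left)
  have h3 : 15 ∣ Nat.card R := ht ▸ ord_dvd htR
  omega

/-- `q = 16` -/
theorem three_sixteen [Fact p.Prime] [CharP F p] (hF : Fintype.card F = q) (h : Ar p f q d np nm)
    (hq16 : q = 16) (M : Subgroup T2) (hM : M ≠ ⊤) : Three T2 M ∨ ∀ R < M, Three T2 R := by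
  have : Finite T2 := finite_psl
  have hFp : Fintype.card F = p ^ f := hF.trans h.hq
  have hp : p = 2 := by
    have h1 : p ∣ 2 ^ 4 := by
      rw [show (2 : ℕ) ^ 4 = q by rw [hq16]; norm_num, h.hq]
      exact dvd_pow_self p (by have := h.hf; omega)
    exact (Nat.prime_dvd_prime_iff_eq h.hp Nat.prime_two).1 (h.hp.dvd_of_dvd_pow h1)
  subst hp
  obtain ⟨hd, -, e1, e2, -⟩ := h.even rfl
  have hnp : np = 17 := by omega
  have hnm : nm = 15 := by omega
  have hf4 : f = 4 := by
    have h1 := h.hq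
    rw [hq16, show 16 = 2 ^ 4 by norm_num] at h1
    exact (Nat.pow_right_injective le_rfl h1).symm
  have hcT : Nat.card T2 = 4080 := by
    rw [card_T hF h, hq16, hd, hnp, hnm]
  obtain ⟨x17, hx17⟩ := exists_ord hF h (Or.inl rfl) (dvd_refl np)
  obtain ⟨x15, hx15⟩ := exists_ord hF h (Or.inr rfl) (dvd_refl nm)
  rw [hnp] at hx17
  rw [hnm] at hx15
  have hp17 : Nat.Prime 17 := by norm_num
  have hSC : ¬ SC T2 17 := not_SC_of_totient h.hf hFp (by norm_num) (by norm_num) hx17
    (by rw [Nat.totient_prime hp17, hf4]; norm_num)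
  -- a subgroup of order prime to 17 with another missing prime or without elements of order 15
  have key : ∀ (R : Subgroup T2), ¬ 17 ∣ Nat.card R → ∀ w : ℕ, (w = 2 ∨ w = 3 ∨ w = 5) → ¬ w ∣ Nat.card R →
      Three T2 R := by
    intro R h17 w hw hwR
    refine Three.of_two_primes hp17 ?_ (w := w) ?_ ?_ h17 hwR hSC
    · rcases hw with rfl | rfl | rfl <;> norm_num
    · omega
    · rw [hcT]
      rcases hw with rfl | rfl | rfl <;> norm_num
  have key2 : ∀ (R : Subgroup T2), ¬ 17 ∣ Nat.card R → (∀ m ∈ R, orderOf m ≠ 15) → Three T2 R :=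
    fun R h17 h15 => Three.of_not_SC_order h17 hSC hx15 h15 (by norm_num)
  rcases dickson' hF h M hM with ⟨k, hk, hk2⟩ | ⟨P, K, hK, ⟨e⟩⟩ | ⟨h5, -⟩ | ⟨q0, m, hq0, hm, hqm, hpq0, hdvd, hno⟩
  · rcases hk with hk | hk
    · left
      -- orders 3, 5, 15
      rw [hnp] at hk
      have h34 : Nat.card M ∣ 34 := hk2.trans (by simpa using Nat.mul_dvd_mul_left 2 hk)
      obtain ⟨x3, hx3⟩ := exists_ord hF h (n := nm) (k := 3) (Or.inr rfl) (by rw [hnm]; norm_num)
      obtain ⟨x5, hx5⟩ := exists_ord hF h (n := nm) (k := 5) (Or.inr rfl) (by rw [hnm]; norm_num)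
      refine Three.of_orders (a := 3) (b := 5) (c := 15) (by norm_num) (by norm_num) (by norm_num) hx3 hx5 hx15
        (fun m hm h1 => ?_) (fun m hm h1 => ?_) (fun m hm h1 => ?_)
      all_goals
        have h2 := (ord_dvd hm).trans h34
        rw [h1] at h2
        norm_num at h2
    · right
      rw [hnm] at hk
      have h30 : Nat.card M ∣ 30 := hk2.trans (by simpa using Nat.mul_dvd_mul_left 2 hk)
      intro R hR
      have hR30 : Nat.card R ∣ 30 := (card_dvd_of_le hR.le).trans h30
      have h17 : ¬ 17 ∣ Nat.card R := fun h1 => by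
        have := h1.trans hR30
        norm_num at this
      by_cases h2 : 2 ∣ Nat.card R
      swap
      · exact key R h17 2 (by simp) h2
      by_cases h3 : 3 ∣ Nat.card R
      swap
      · exact key R h17 3 (by simp) h3
      by_cases h5' : 5 ∣ Nat.card R
      swap
      · exact key R h17 5 (by simp) h5'
      exfalso
      have h4 := Nat.le_of_dvd Nat.card_pos (thirty_dvd h2 h3 h5')
      have h6 := Nat.le_of_dvd (by norm_num) h30
      have h7 : Nat.card R < Nat.card M := Set.Finite.card_lt_card (Set.toFinite _) hR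
      omega
  · right
    intro R hR
    have hcM : Nat.card M ∣ 240 := by
      have h1 : Nat.card M ∣ q * nm := by
        rw [← card_B hF h P, Nat.card_congr e.toEquiv]
        exact card_dvd_of_le hK
      rwa [hq16, hnm] at h1
    have h17 : ¬ 17 ∣ Nat.card R := fun h1 => by
      have := (h1.trans (card_dvd_of_le hR.le)).trans hcM
      norm_num at this
    by_cases h2 : 2 ∣ Nat.card R
    swap
    · exact key R h17 2 (by simp) h2
    by_cases h15 : ∀ m ∈ R, orderOf m ≠ 15
    · exact key2 R h17 h15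
    push Not at h15
    obtain ⟨t, htR, ht⟩ := h15
    exfalso
    let ψ : M →* T2 := K.subtype.comp e.toMonoidHom
    have hψ : Function.Injective ψ := K.subtype_injective.comp e.injective
    set R' := (R.subgroupOf M).map ψ with hR'
    have hcR : Nat.card R' = Nat.card R := by
      rw [hR', ← Nat.card_congr (Subgroup.subgroupOfEquivOfLe hR.le).toEquiv]
      exact (Nat.card_congr ((R.subgroupOf M).equivMapOfInjective ψ hψ).toEquiv).symm
    have hR'N : R' ≤ normalizer ((P : Subgroup T2) : Set T2) := by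
      rw [hR', Subgroup.map_le_iff_le_comap]
      intro m _
      exact hK (e m).2
    have h240 := borel_sixteen hF h hnp hnm P R' hR'N (t := ψ ⟨t, hR.le htR⟩)
      ⟨⟨t, hR.le htR⟩, htR, rfl⟩ (by rw [orderOf_injective ψ hψ, Subgroup.orderOf_mk, ht]) (by rwa [hcR])
    rw [hcR] at h240
    have h4 := Nat.le_of_dvd Nat.card_pos h240
    have h6 := Nat.le_of_dvd (by norm_num) hcM
    have h7 : Nat.card R < Nat.card M := Set.Finite.card_lt_card (Set.toFinite _) hR
    omega
  · exact Or.inl (three_of_small hF h (by omega) h5)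
  · left
    refine key2 M (fun h17 => ?_) (hno hq16)
    have h1 := h17.trans hdvd
    have h2 : q0 ^ 2 ≤ 16 := by
      rw [← hq16, ← hqm]
      exact Nat.pow_le_pow_right (by omega) hm
    have h3 : q0 ≤ 4 := by nlinarith
    interval_cases q0 <;> norm_num at h1

end

/-- **S3502-PSL2** -/
theorem rowS_psl2 {F : Type} [Field F] [Fintype F] (h4 : 4 ≤ Fintype.card F)
    (hq : Fintype.card F ∉ ({4, 5, 7, 8, 9} : Finset ℕ)) :
    RowS (Matrix.ProjectiveSpecialLinearGroup (Fin 2) F) := by
  obtain ⟨p, hchar⟩ := CharP.exists F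
  have hp : Fact p.Prime := ⟨CharP.char_is_prime F p⟩
  obtain ⟨f, -, hf⟩ := FiniteField.card F p
  have h := exists_ar hp.out f.2 hf h4 hq
  have : Finite (Matrix.ProjectiveSpecialLinearGroup (Fin 2) F) := finite_psl
  refine RowS.of_coatoms fun M hM => ?_
  by_cases h11 : Fintype.card F = 11
  · exact (three_eleven rfl h h11 M hM.1).imp id fun h1 => ⟨two_psl2 h4 hq M hM.1, h1⟩
  by_cases h16 : Fintype.card F = 16
  · exact (three_sixteen rfl h h16 M hM.1).imp id fun h1 => ⟨two_psl2 h4 hq M hM.1, h1⟩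
  exact Or.inl (three_gen rfl h h16 h11 M hM.1)

end Cfsg.Agent.H410.Three.Psl2
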