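import Cfsg.Agent.ClassicalGeometry.AutPSL.Main
import Cfsg.Agent.Lib.FieldAutCard
import Cfsg.Agent.H439.Der.Three

/-!
# Classes of semisimple elements of `PSL₂(q)` under `Aut` (helper410, S3502)

`totient_le` : if every element of order `n` (prime to `p`) is `Aut T`-conjugate to one of `m` given elements, then
`φ(n) ≤ 2 m f` (`q = p ^ f`). In particular `not_SC_of_totient`, `not_SCC_of_totient`.
-/

set_option autoImplicit false

namespace Cfsg.Agent.H410.Three.Psl2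

open Matrix Subgroup Cfsg.Agent.H439.Der
open Cfsg.Agent.ClassicalGeometry.AutPSL.Root (pr pr_surjective)
open Cfsg.Agent.ClassicalGeometry.AutPSL.Auto (cj fld lift lift_pr coe_cj coe_fld_apply)

variable {F : Type*} [Field F]

/-- the trace -/
def tr (X : SpecialLinearGroup (Fin 2) F) : F := (X : Matrix (Fin 2) (Fin 2) F).trace

theorem coe_sq (X : SpecialLinearGroup (Fin 2) F) :
    (X : Matrix (Fin 2) (Fin 2) F) * X = tr X • (X : Matrix (Fin 2) (Fin 2) F) - 1 := by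
  have h := X.det_coe
  rw [Matrix.det_fin_two] at h
  unfold tr
  rw [Matrix.trace_fin_two]
  ext i j
  fin_cases i <;> fin_cases j
  · simp [Matrix.mul_apply, Fin.sum_univ_two]
    linear_combination (-1 : F) * h
  · simp [Matrix.mul_apply, Fin.sum_univ_two]
    ring
  · simp [Matrix.mul_apply, Fin.sum_univ_two]
    ring
  · simp [Matrix.mul_apply, Fin.sum_univ_two]
    linear_combination (-1 : F) * h

theorem coe_pow' (X : SpecialLinearGroup (Fin 2) F) (n : ℕ) :
    ((X ^ n : SpecialLinearGroup (Fin 2) F) : Matrix (Fin 2) (Fin 2) F) = (X : Matrix (Fin 2) (Fin 2) F) ^ n :=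
  Matrix.SpecialLinearGroup.coe_pow X n

theorem tr_def (X : SpecialLinearGroup (Fin 2) F) : tr X = (X : Matrix (Fin 2) (Fin 2) F).trace := rfl

theorem tr_pow_add_two (X : SpecialLinearGroup (Fin 2) F) (k : ℕ) :
    tr (X ^ (k + 2)) = tr X * tr (X ^ (k + 1)) - tr (X ^ k) := by
  rw [tr_def, tr_def (X ^ (k + 1)), tr_def (X ^ k), coe_pow', coe_pow', coe_pow', pow_add _ k 2, pow_two,
    coe_sq, mul_sub, mul_one, mul_smul_comm, ← pow_succ, Matrix.trace_sub, Matrix.trace_smul, smul_eq_mul]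

theorem exists_zeta (X : SpecialLinearGroup (Fin 2) F) : ∃ ζ : AlgebraicClosure F, ζ ≠ 0 ∧
    ∀ k : ℕ, algebraMap F (AlgebraicClosure F) (tr (X ^ k)) = ζ ^ k + (ζ ^ k)⁻¹ := by
  set K := AlgebraicClosure F
  set t : K := algebraMap F K (tr X) with ht
  obtain ⟨ζ, hζ⟩ : ∃ ζ : K, ζ * ζ - t * ζ + 1 = 0 := by
    have h1 : (Polynomial.X ^ 2 - Polynomial.C t * Polynomial.X + 1 : Polynomial K).degree ≠ 0 := by
      have : (Polynomial.X ^ 2 - Polynomial.C t * Polynomial.X + 1 : Polynomial K).degree = 2 := by compute_degree!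
      rw [this]
      norm_num
    obtain ⟨ζ, hζ⟩ := IsAlgClosed.exists_root _ h1
    refine ⟨ζ, ?_⟩
    simpa [Polynomial.IsRoot, pow_two] using hζ
  have h0 : ζ ≠ 0 := by
    rintro rfl
    simp at hζ
  refine ⟨ζ, h0, ?_⟩
  have ht2 : t = ζ + ζ⁻¹ := by
    have h1 : t * ζ = (ζ + ζ⁻¹) * ζ := by
      rw [add_mul, inv_mul_cancel₀ h0]
      linear_combination -hζ
    exact mul_right_cancel₀ h0 h1
  intro k
  induction k using Nat.twoStepInduction with
  | zero =>
    rw [pow_zero, pow_zero]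
    have : tr (1 : SpecialLinearGroup (Fin 2) F) = 2 := by simp [tr]
    rw [this, map_ofNat]
    norm_num
  | one => rw [pow_one, pow_one, ← ht, ht2]
  | more k ih1 ih2 =>
    rw [tr_pow_add_two, map_sub, map_mul, ih1, ih2, ← ht, ht2]
    have hk : ζ ^ k ≠ 0 := pow_ne_zero _ h0
    rw [show ζ ^ (k + 2) = ζ ^ k * ζ * ζ by ring, show ζ ^ (k + 1) = ζ ^ k * ζ by ring]
    field_simp
    ring

theorem coe_of_pr_eq {X Y : SpecialLinearGroup (Fin 2) F} (h : pr X = pr Y) :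
    ∃ c : F, c * c = 1 ∧ (X : Matrix (Fin 2) (Fin 2) F) = c • (Y : Matrix (Fin 2) (Fin 2) F) := by
  have h1 : Y⁻¹ * X ∈ Subgroup.center (SpecialLinearGroup (Fin 2) F) := QuotientGroup.eq.1 h.symm
  obtain ⟨c, hc, hc'⟩ := Matrix.SpecialLinearGroup.mem_center_iff.1 h1
  rw [Fintype.card_fin] at hc
  refine ⟨c, by rw [← pow_two, hc], ?_⟩
  have h2 : X = Y * (Y⁻¹ * X) := by group
  have h3 : (X : Matrix (Fin 2) (Fin 2) F) = (Y : Matrix (Fin 2) (Fin 2) F) *
      ((Y⁻¹ * X : SpecialLinearGroup (Fin 2) F) : Matrix (Fin 2) (Fin 2) F) := by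
    conv_lhs => rw [h2]
    exact Matrix.SpecialLinearGroup.coe_mul _ _
  rw [h3, ← hc', Matrix.scalar_apply, ← Matrix.smul_one_eq_diagonal, mul_smul_comm, mul_one]

/-- the square of the trace of a lift -/
theorem tau_pr {X Y : SpecialLinearGroup (Fin 2) F} (h : pr X = pr Y) : tr X ^ 2 = tr Y ^ 2 := by
  obtain ⟨c, hc, h1⟩ := coe_of_pr_eq h
  unfold tr
  rw [h1, Matrix.trace_smul, smul_eq_mul, mul_pow, pow_two c, hc, one_mul]

theorem tr_cj (A : GL (Fin 2) F) (X : SpecialLinearGroup (Fin 2) F) : tr (cj A X) = tr X := by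
  unfold tr
  rw [coe_cj, Matrix.trace_mul_cycle, ← Units.val_mul, inv_mul_cancel, Units.val_one, one_mul]

theorem tr_fld (σ : F ≃+* F) (X : SpecialLinearGroup (Fin 2) F) : tr (fld σ X) = σ (tr X) := by
  unfold tr
  rw [Matrix.trace_fin_two, Matrix.trace_fin_two, map_add, coe_fld_apply, coe_fld_apply]

theorem tau_aut [Fintype F] (p : ℕ) [Fact p.Prime] [CharP F p]
    (φ : ProjectiveSpecialLinearGroup (Fin 2) F ≃* ProjectiveSpecialLinearGroup (Fin 2) F)
    {X Y : SpecialLinearGroup (Fin 2) F} (h : φ (pr X) = pr Y) : ∃ σ : F ≃+* F, tr Y ^ 2 = σ (tr X ^ 2) := by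
  obtain ⟨A, σ, hA⟩ := Cfsg.Agent.ClassicalGeometry.AutPSL.Main.surj_two p (φ : MulAut _)
  refine ⟨σ, ?_⟩
  have h1 : pr (cj A (fld σ X)) = pr Y := by
    rw [← h]
    have h2 : φ (pr X) = lift (cj A * fld σ) (pr X) := by rw [← hA]
    rw [h2, lift_pr, MulAut.mul_apply]
  rw [← tau_pr h1, tr_cj, tr_fld, map_pow]

/-- `tr = ±2` : unipotent up to sign -/
theorem pow_of_tr {p : ℕ} [hp : Fact p.Prime] [CharP F p] {Y : SpecialLinearGroup (Fin 2) F} {ε : F} (hε : ε * ε = 1)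
    (h : tr Y = 2 * ε) : (pr Y) ^ p = 1 := by
  obtain ⟨M, hM⟩ : ∃ M : Matrix (Fin 2) (Fin 2) F, (Y : Matrix (Fin 2) (Fin 2) F) = M := ⟨_, rfl⟩
  have h1 : (M - ε • 1) * (M - ε • 1) = 0 := by
    have h2 := coe_sq Y
    rw [h, hM] at h2
    rw [sub_mul, mul_sub, mul_sub, h2]
    simp only [smul_mul_assoc, mul_smul_comm, one_mul, mul_one, smul_smul, hε]
    rw [mul_smul, one_smul, two_smul]
    abel
  have hchM : CharP (Matrix (Fin 2) (Fin 2) F) p := inferInstance
  have h3 : (M - ε • 1) ^ p = 0 := by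
    obtain ⟨r, hr⟩ : ∃ r, p = r + 2 := ⟨p - 2, by have := hp.out.two_le; omega⟩
    rw [hr, pow_add, pow_two, h1, mul_zero]
  have h4 : M ^ p = (ε ^ p) • (1 : Matrix (Fin 2) (Fin 2) F) := by
    have h5 : (M - ε • 1) ^ p = M ^ p - (ε • 1) ^ p := by
      rw [sub_pow_char_of_commute]
      exact (Commute.one_right M).smul_right ε
    rw [h3, smul_pow, one_pow] at h5
    exact (sub_eq_zero.1 h5.symm)
  have h6 : Y ^ p ∈ Subgroup.center (SpecialLinearGroup (Fin 2) F) := by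
    rw [Matrix.SpecialLinearGroup.mem_center_iff]
    refine ⟨ε ^ p, ?_, ?_⟩
    · rw [Fintype.card_fin, ← pow_mul, mul_comm, pow_mul, pow_two, hε, one_pow]
    · rw [coe_pow', hM, h4]
      ext i j
      simp [Matrix.scalar_apply, Matrix.diagonal_apply, Matrix.one_apply]
  have h7 : pr (Y ^ p) = 1 := (QuotientGroup.eq_one_iff _).2 h6
  rw [← h7]
  exact (map_pow pr Y p).symm

theorem pow_eq_one_of_zeta {p : ℕ} [hp : Fact p.Prime] [CharP F p] {X : SpecialLinearGroup (Fin 2) F}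
    {ζ : AlgebraicClosure F}
    (hζ : ∀ k : ℕ, algebraMap F (AlgebraicClosure F) (tr (X ^ k)) = ζ ^ k + (ζ ^ k)⁻¹)
    (hpn : ¬ p ∣ orderOf (pr X)) {m : ℕ} (h : ζ ^ (2 * m) = 1) : orderOf (pr X) ∣ m := by
  have h1 : (ζ ^ m) * (ζ ^ m) = 1 := by rw [← pow_add, ← two_mul, h]
  have h2 : ∃ ε : F, ε * ε = 1 ∧ algebraMap F (AlgebraicClosure F) ε = ζ ^ m := by
    rcases mul_self_eq_one_iff.1 h1 with h3 | h3
    · exact ⟨1, by ring, by rw [map_one, h3]⟩
    · exact ⟨-1, by ring, by rw [map_neg, map_one, h3]⟩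
  obtain ⟨ε, hε, hε'⟩ := h2
  have h4 : tr (X ^ m) = 2 * ε := by
    apply (algebraMap F (AlgebraicClosure F)).injective
    rw [hζ, map_mul, hε', map_ofNat]
    have h5 : (ζ ^ m)⁻¹ = ζ ^ m := inv_eq_of_mul_eq_one_left h1
    rw [h5]; ring
  have h5 := pow_of_tr (p := p) hε h4
  have h6 : (pr X) ^ (m * p) = 1 := by rw [pow_mul, ← h5]; rw [map_pow]
  exact (Nat.Coprime.dvd_of_dvd_mul_right (((Nat.Prime.coprime_iff_not_dvd hp.out).2 hpn).symm)
    (orderOf_dvd_of_pow_eq_one h6))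

theorem tau_inj {p : ℕ} [hp : Fact p.Prime] [CharP F p] {X : SpecialLinearGroup (Fin 2) F}
    (hpn : ¬ p ∣ orderOf (pr X)) {k j : ℕ} (h : tr (X ^ k) ^ 2 = tr (X ^ j) ^ 2) :
    orderOf (pr X) ∣ k + j ∨ k ≡ j [MOD orderOf (pr X)] := by
  wlog hkj : j ≤ k generalizing k j
  · rcases this h.symm (by omega) with h1 | h1
    · left; rwa [add_comm]
    · exact Or.inr h1.symm
  obtain ⟨ζ, h0, hζ⟩ := exists_zeta X
  have h1 := congrArg (algebraMap F (AlgebraicClosure F)) h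
  rw [map_pow, map_pow, hζ, hζ] at h1
  set a := ζ ^ k with ha
  set b := ζ ^ j with hb
  have ha0 : a ≠ 0 := pow_ne_zero _ h0
  have hb0 : b ≠ 0 := pow_ne_zero _ h0
  have h2 : (a * a - b * b) * (a * a * (b * b) - 1) = 0 := by
    field_simp at h1
    linear_combination h1
  rcases mul_eq_zero.1 h2 with h3 | h3
  · right
    obtain ⟨i, rfl⟩ : ∃ i, k = j + i := ⟨k - j, by omega⟩
    have h4 : ζ ^ (2 * i) = 1 := by
      have h5 : a * a = b * b * ζ ^ (2 * i) := by rw [ha, hb]; ring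
      have h6 : b * b * (ζ ^ (2 * i) - 1) = 0 := by rw [mul_sub, ← h5, mul_one, h3]
      rcases mul_eq_zero.1 h6 with h7 | h7
      · exact absurd h7 (mul_ne_zero hb0 hb0)
      · exact sub_eq_zero.1 h7
    have h8 := pow_eq_one_of_zeta hζ hpn h4
    have h9 : j + i ≡ j + 0 [MOD orderOf (pr X)] := Nat.ModEq.add_left j ((Nat.modEq_zero_iff_dvd).2 h8)
    simpa using h9
  · left
    apply pow_eq_one_of_zeta hζ hpn
    rw [← sub_eq_zero, ← h3, ha, hb]
    ring

/-- **the number of classes of elements of order `n`** -/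
theorem totient_le [Fintype F] {p f n m : ℕ} [hp : Fact p.Prime] [CharP F p] (hf : 1 ≤ f)
    (hF : Fintype.card F = p ^ f) (hn : 3 ≤ n) (hpn : ¬ p ∣ n)
    {x : ProjectiveSpecialLinearGroup (Fin 2) F} (hx : orderOf x = n)
    (a : Fin m → ProjectiveSpecialLinearGroup (Fin 2) F)
    (h : ∀ z : ProjectiveSpecialLinearGroup (Fin 2) F, n ∣ orderOf z →
      ∃ i, ∃ φ : ProjectiveSpecialLinearGroup (Fin 2) F ≃* ProjectiveSpecialLinearGroup (Fin 2) F, φ (a i) = z) :
    n.totient ≤ 2 * (m * f) := by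
  classical
  have : NeZero n := ⟨by omega⟩
  have : Finite (F ≃+* F) := Finite.of_injective (fun σ => (σ : F → F)) fun σ τ h => RingEquiv.ext (congrFun h)
  have : Fintype (F ≃+* F) := Fintype.ofFinite _
  obtain ⟨X, rfl⟩ := pr_surjective x
  choose A hA using fun i => pr_surjective (a i)
  let g : (ZMod n)ˣ → F := fun k => tr (X ^ (k : ZMod n).val) ^ 2
  let S : Finset F := Finset.univ.image (fun u : Fin m × (F ≃+* F) => u.2 (tr (A u.1) ^ 2))
  have hgS : ∀ k, g k ∈ S := by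
    intro k
    have ho : orderOf (pr X ^ (k : ZMod n).val) = n := by
      rw [Nat.Coprime.orderOf_pow (by rw [hx]; exact (ZMod.val_coe_unit_coprime k).symm), hx]
    obtain ⟨i, φ, hφ⟩ := h _ (by rw [ho])
    rw [← hA i, ← map_pow] at hφ
    obtain ⟨σ, hσ⟩ := tau_aut p φ hφ
    exact Finset.mem_image.2 ⟨(i, σ), Finset.mem_univ _, hσ.symm⟩
  have hS : S.card ≤ m * f := by
    refine Finset.card_image_le.trans ?_
    rw [Finset.card_univ, Fintype.card_prod, Fintype.card_fin, ← Nat.card_eq_fintype_card (α := F ≃+* F),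
      Cfsg.Agent.Lib.FieldAutCard.card_ringAut hf hF]
  have hfib : ∀ y ∈ (Finset.univ : Finset (ZMod n)ˣ).image g,
      ((Finset.univ : Finset (ZMod n)ˣ).filter (fun k => g k = y)).card ≤ 2 := by
    intro y hy
    obtain ⟨k₀, -, rfl⟩ := Finset.mem_image.1 hy
    have hsub : (Finset.univ : Finset (ZMod n)ˣ).filter (fun k => g k = g k₀) ⊆ {k₀, -k₀} := by
      intro k hk
      rw [Finset.mem_filter] at hk
      rw [Finset.mem_insert, Finset.mem_singleton]
      rcases tau_inj (p := p) (by rwa [hx]) hk.2 with h1 | h1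
      · right
        rw [hx] at h1
        apply Units.ext
        rw [Units.val_neg, eq_neg_iff_add_eq_zero]
        have h2 : (((k : ZMod n).val + (k₀ : ZMod n).val : ℕ) : ZMod n) = 0 := (ZMod.natCast_eq_zero_iff _ _).2 h1
        rwa [Nat.cast_add, ZMod.natCast_zmod_val, ZMod.natCast_zmod_val] at h2
      · left
        rw [hx] at h1
        apply Units.ext
        apply ZMod.val_injective n
        rw [Nat.ModEq, Nat.mod_eq_of_lt (ZMod.val_lt _), Nat.mod_eq_of_lt (ZMod.val_lt _)] at h1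
        exact h1
    exact (Finset.card_le_card hsub).trans (Finset.card_le_two)
  have h1 := Finset.card_le_mul_card_image (Finset.univ : Finset (ZMod n)ˣ) 2 hfib
  rw [Finset.card_univ, ZMod.card_units_eq_totient] at h1
  have h2 : ((Finset.univ : Finset (ZMod n)ˣ).image g).card ≤ S.card :=
    Finset.card_le_card (fun y hy => by
      obtain ⟨k, -, rfl⟩ := Finset.mem_image.1 hy
      exact hgS k)
  exact h1.trans (Nat.mul_le_mul_left 2 (h2.trans hS))

theorem not_SC_of_totient [Fintype F] {p f n : ℕ} [hp : Fact p.Prime] [CharP F p] (hf : 1 ≤ f)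
    (hF : Fintype.card F = p ^ f) (hn : 3 ≤ n) (hpn : ¬ p ∣ n)
    {x : ProjectiveSpecialLinearGroup (Fin 2) F} (hx : orderOf x = n) (h : 2 * f < n.totient) :
    ¬ SC (ProjectiveSpecialLinearGroup (Fin 2) F) n := by
  intro hs
  have h1 := totient_le (m := 1) hf hF hn hpn hx (fun _ => x) (fun z hz => by
    obtain ⟨φ, hφ⟩ := hs x z (by rw [hx]) hz
    exact ⟨0, φ, hφ⟩)
  omega

theorem not_SCC_of_totient [Fintype F] {p f n : ℕ} [hp : Fact p.Prime] [CharP F p] (hf : 1 ≤ f)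
    (hF : Fintype.card F = p ^ f) (hn : 3 ≤ n) (hpn : ¬ p ∣ n)
    {x : ProjectiveSpecialLinearGroup (Fin 2) F} (hx : orderOf x = n) (h : 4 * f < n.totient) :
    ¬ SCC (ProjectiveSpecialLinearGroup (Fin 2) F) n := by
  rintro ⟨a, b, hs⟩
  have h1 := totient_le (m := 2) hf hF hn hpn hx ![a, b] (fun z hz => by
    rcases hs z hz with ⟨φ, hφ⟩ | ⟨φ, hφ⟩
    · exact ⟨0, φ, hφ⟩
    · exact ⟨1, φ, hφ⟩)
  omega

end Cfsg.Agent.H410.Three.Psl2
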